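import Mathlib

/-!
Flatness over dual numbers: `M` is flat over `A[ε]` iff `M/εM` is flat over `A` and `εm = 0`
implies `m ∈ εM`.
-/

set_option autoImplicit false

open DualNumber TrivSqZeroExt

namespace Groth.Agent.HilbD.DualFlat

variable {A M N : Type*} [CommRing A] [AddCommGroup M] [Module (DualNumber A) M]
  [AddCommGroup N] [Module A N]

theorem eq_inl_add_eps_mul (f : DualNumber A) :
    f = inl f.fst + inl f.snd * (ε : DualNumber A) := by
  ext <;> simp

theorem eps_torsion_of_flat [Module.Flat (DualNumber A) M] (m : M)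
    (h : (ε : DualNumber A) • m = 0) : ∃ m', m = (ε : DualNumber A) • m' := by
  obtain ⟨k, a, y, hy, ha⟩ := Module.Flat.isTrivialRelation_of_sum_smul_eq_zero
    (f := fun _ : Fin 1 => (ε : DualNumber A)) (x := fun _ => m) (by simpa using h)
  refine ⟨∑ j, (inl (a 0 j).snd : DualNumber A) • y j, ?_⟩
  have h0 : ∀ j, (a 0 j).fst = 0 := fun j => by
    have := congrArg TrivSqZeroExt.snd (ha j)
    simpa [DualNumber.snd_mul] using this
  rw [Finset.smul_sum]
  refine (hy 0).trans (Finset.sum_congr rfl fun j _ => ?_)
  conv_lhs => rw [eq_inl_add_eps_mul (a 0 j), h0, inl_zero, zero_add]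
  rw [smul_smul, mul_comm]

/-- Flatness over the dual numbers from flatness of the reduction. -/
theorem flat_of_reduction [Module.Flat A N] (π : M →+ N) (hπs : Function.Surjective π)
    (hπ : ∀ (f : DualNumber A) (m : M), π (f • m) = f.fst • π m)
    (hker : ∀ m : M, π m = 0 → ∃ m', m = (ε : DualNumber A) • m')
    (htor : ∀ m : M, (ε : DualNumber A) • m = 0 → ∃ m', m = (ε : DualNumber A) • m') :
    Module.Flat (DualNumber A) M := by
  rw [Module.Flat.iff_forall_isTrivialRelation]
  intro l f x hfx
  let E : DualNumber A := ε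
  -- relation modulo ε
  have h1 : ∑ i, (f i).fst • π (x i) = 0 := by
    have := congrArg π hfx
    simpa [map_sum, hπ] using this
  obtain ⟨k, c, yb, hyb, hc⟩ := Module.Flat.isTrivialRelation_of_sum_smul_eq_zero h1
  choose y hy using fun j => hπs (yb j)
  have hz : ∀ i, ∃ z, x i = ∑ j, (inl (c i j) : DualNumber A) • y j + E • z := fun i => by
    obtain ⟨z, hz⟩ := hker (x i - ∑ j, (inl (c i j) : DualNumber A) • y j) (by
      simp [map_sum, hπ, hy, hyb i])
    exact ⟨z, by rw [← hz, add_sub_cancel]⟩
  choose z hz using hz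
  -- second relation
  let d : Fin k → A := fun j => ∑ i, (f i).snd * c i j
  have hfE : ∀ i, f i * E = E * inl (f i).fst := fun i => by
    ext <;> simp [E, DualNumber.snd_mul, mul_comm]
  have h2 : E • (∑ j, (inl (d j) : DualNumber A) • y j + ∑ i, (inl (f i).fst : DualNumber A) • z i)
      = 0 := by
    have hstep : ∀ i j, f i * inl (c i j) =
        inl ((f i).fst * c i j) + E * inl ((f i).snd * c i j) := fun i j => by
      ext <;> simp [E, DualNumber.snd_mul]
    have h0 : ∀ j, ∑ i, (inl ((f i).fst * c i j) : DualNumber A) = 0 := fun j => by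
      rw [← inl_sum, hc j, inl_zero]
    have h := hfx
    simp only [hz, smul_add, Finset.sum_add_distrib, Finset.smul_sum, smul_smul, hstep, add_smul,
      hfE] at h
    rw [Finset.sum_comm (f := fun i j => (inl ((f i).fst * c i j) : DualNumber A) • y j),
      Finset.sum_comm (f := fun i j => (E * inl ((f i).snd * c i j)) • y j)] at h
    simp only [← Finset.sum_smul, h0, zero_smul, Finset.sum_const_zero, zero_add] at h
    rw [smul_add, Finset.smul_sum, Finset.smul_sum]
    simp only [smul_smul, d, inl_sum, Finset.mul_sum]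
    exact h
  have h3 : ∑ j, d j • yb j + ∑ i, (f i).fst • π (z i) = 0 := by
    obtain ⟨m', hm'⟩ := htor _ h2
    have := congrArg π hm'
    rw [hπ, fst_eps, zero_smul] at this
    simpa [map_add, map_sum, hπ, hy] using this
  obtain ⟨p, C, wb, hwb, hC⟩ := Module.Flat.isTrivialRelation_of_sum_smul_eq_zero
    (f := Sum.elim d fun i => (f i).fst) (x := Sum.elim yb fun i => π (z i))
    (by rw [Fintype.sum_sum_type]; exact h3)
  choose w hw using fun t => hπs (wb t)
  have hs : ∀ j, ∃ s, y j = ∑ t, (inl (C (Sum.inl j) t) : DualNumber A) • w t + E • s := fun j => by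
    obtain ⟨s, hs⟩ := hker (y j - ∑ t, (inl (C (Sum.inl j) t) : DualNumber A) • w t) (by
      have := hwb (Sum.inl j)
      simp only [Sum.elim_inl] at this
      simp [map_sum, hπ, hw, hy, this])
    exact ⟨s, by rw [← hs, add_sub_cancel]⟩
  choose s hs using hs
  have hs' : ∀ i, ∃ r, z i = ∑ t, (inl (C (Sum.inr i) t) : DualNumber A) • w t + E • r := fun i => by
    obtain ⟨r, hr⟩ := hker (z i - ∑ t, (inl (C (Sum.inr i) t) : DualNumber A) • w t) (by
      have := hwb (Sum.inr i)
      simp only [Sum.elim_inr] at this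
      simp [map_sum, hπ, hw, this])
    exact ⟨r, by rw [← hr, add_sub_cancel]⟩
  choose r hr using hs'
  let a : Fin l → Fin p ⊕ Fin k → DualNumber A := fun i => Sum.elim
    (fun t => inl (∑ j, c i j * C (Sum.inl j) t) + E * inl (C (Sum.inr i) t))
    (fun j => E * inl (c i j))
  refine ⟨p + k, fun i => a i ∘ finSumFinEquiv.symm, Sum.elim w s ∘ finSumFinEquiv.symm,
    fun i => ?_, fun t => ?_⟩
  · rw [← finSumFinEquiv.sum_comp]
    simp only [Function.comp_apply, Equiv.symm_apply_apply, Fintype.sum_sum_type, a, Sum.elim_inl,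
      Sum.elim_inr]
    have hEE : E * E = 0 := DualNumber.eps_mul_eps
    have hEE' : ∀ b : DualNumber A, E * b * E = 0 := fun b => by
      rw [mul_comm E b, mul_assoc, hEE, mul_zero]
    rw [hz i]
    simp only [hr, hs, smul_add, Finset.smul_sum, smul_smul, Finset.sum_add_distrib, add_smul,
      inl_sum, Finset.sum_smul, hEE, zero_smul, add_zero, ← inl_mul]
    rw [Finset.sum_comm]
    have : ∀ j, inl (c i j) * E = E * inl (c i j) := fun j => mul_comm _ _
    simp only [this]
    abel
  · obtain ⟨t, rfl⟩ := finSumFinEquiv.surjective t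
    simp only [Function.comp_apply, Equiv.symm_apply_apply, a]
    rcases t with t | j
    · have hC' := hC t
      rw [Fintype.sum_sum_type] at hC'
      simp only [Sum.elim_inl, Sum.elim_inr, d, Finset.sum_mul] at hC'
      rw [Finset.sum_comm] at hC'
      have hc' : ∑ i, (f i).fst * ∑ j, c i j * C (Sum.inl j) t = 0 := by
        simp only [Finset.mul_sum, ← mul_assoc]
        rw [Finset.sum_comm]
        simp only [← Finset.sum_mul, hc, zero_mul, Finset.sum_const_zero]
      ext
      · simpa [E, fst_sum] using hc'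
      · simp [E, snd_sum, DualNumber.snd_mul, Finset.sum_add_distrib, Finset.mul_sum, ← mul_assoc,
          add_comm] at hC' ⊢
        linear_combination hC'
    · ext
      · simp [E, fst_sum]
      · simp [E, snd_sum, DualNumber.snd_mul, hc]

end Groth.Agent.HilbD.DualFlat
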